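import Groth.Agent.Lib.RatFunH11.Basic
import Mathlib.AlgebraicGeometry.Properties
import Mathlib.RingTheory.HopkinsLevitzki

/-!
The ring of rational functions of a Noetherian scheme is the product of the stalks at the generic points.
-/

universe u

open CategoryTheory AlgebraicGeometry TopologicalSpace Opposite

namespace Groth.Agent.RatFunH11

variable {X : Scheme.{u}}

/-- The generic point of a component. -/
noncomputable abbrev gen (Z : irreducibleComponents (X : Type u)) : X := Z.property.1.genericPoint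

theorem isGenericPoint_gen (Z : irreducibleComponents (X : Type u)) : IsGenericPoint (gen Z) (Z : Set X) :=
  Z.property.1.isGenericPoint_genericPoint (isClosed_of_mem_irreducibleComponents _ Z.property)

theorem eq_of_specializes_gen (Z : irreducibleComponents (X : Type u)) {y : X} (h : y ⤳ gen Z) : y = gen Z := by
  have hsub : (Z : Set X) ⊆ closure ({y} : Set X) := by
    rw [← (isGenericPoint_gen Z).def]
    exact closure_minimal (Set.singleton_subset_iff.2 h.mem_closure) isClosed_closure
  have heq : closure ({y} : Set X) = (Z : Set X) :=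
    Set.Subset.antisymm (Z.property.2 isIrreducible_singleton.closure hsub) hsub
  exact IsGenericPoint.eq (show IsGenericPoint y (Z : Set X) from heq) (isGenericPoint_gen Z)

theorem exists_gen_specializes (x : X) : ∃ Z : irreducibleComponents (X : Type u), gen Z ⤳ x :=
  ⟨⟨_, irreducibleComponent_mem_irreducibleComponents x⟩,
    (isGenericPoint_gen _).specializes mem_irreducibleComponent⟩

theorem gen_mem_of_specializes_mem (Z : irreducibleComponents (X : Type u)) (W : X.Opens) {y : X}
    (hy : y ∈ W) (h : gen Z ⤳ y) : gen Z ∈ W := h.mem_open W.2 hy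

theorem dense_of_forall_gen (W : X.Opens) (h : ∀ Z, gen Z ∈ W) : Dense (W : Set X) := fun x => by
  obtain ⟨Z, hZ⟩ := exists_gen_specializes x
  exact closure_mono (Set.singleton_subset_iff.2 (h Z)) hZ.mem_closure

variable [IsNoetherian X]

theorem finite_components : (irreducibleComponents (X : Type u)).Finite :=
  NoetherianSpace.finite_irreducibleComponents

theorem eq_gen_of_specializes (Z Z' : irreducibleComponents (X : Type u)) (h : gen Z ⤳ gen Z') : Z = Z' := by
  have := eq_of_specializes_gen Z' h
  exact Subtype.ext ((isGenericPoint_gen Z).def.symm.trans (this ▸ (isGenericPoint_gen Z').def))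

/-- The points lying only on the component `Z`. -/
noncomputable def onlyOn (Z : irreducibleComponents (X : Type u)) : X.Opens :=
  ⟨(⋃ Z' ∈ irreducibleComponents (X : Type u) \ {(Z : Set X)}, Z')ᶜ,
    ((finite_components.subset Set.sdiff_subset).isClosed_biUnion
      fun Z' hZ' => isClosed_of_mem_irreducibleComponents _ hZ'.1).isOpen_compl⟩

theorem mem_onlyOn_iff (Z : irreducibleComponents (X : Type u)) (y : X) :
    y ∈ onlyOn Z ↔ ∀ Z' : irreducibleComponents (X : Type u), gen Z' ⤳ y → Z' = Z := by
  constructor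
  · intro hy Z' hZ'
    by_contra hne
    exact hy (Set.mem_iUnion₂.2 ⟨Z'.1, ⟨Z'.2, fun h => hne (Subtype.ext h)⟩,
      (isClosed_of_mem_irreducibleComponents _ Z'.2).closure_eq ▸
        (closure_mono (Set.singleton_subset_iff.2 (isGenericPoint_gen Z').mem) hZ'.mem_closure)⟩)
  · intro h hy
    obtain ⟨T, ⟨hT, hne⟩, hyT⟩ := Set.mem_iUnion₂.1 hy
    exact hne (congrArg Subtype.val (h ⟨T, hT⟩ ((isGenericPoint_gen ⟨T, hT⟩).specializes hyT)))

theorem gen_mem_of_dense (Z : irreducibleComponents (X : Type u)) (V : X.Opens) (hV : Dense (V : Set X)) :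
    gen Z ∈ V := by
  have hZ : gen Z ∈ onlyOn Z := (mem_onlyOn_iff Z _).2 fun Z' h => eq_gen_of_specializes Z' Z h
  obtain ⟨y, hyo, hyV⟩ := hV.inter_open_nonempty _ (onlyOn Z).2 ⟨_, hZ⟩
  obtain ⟨Z', hZ'⟩ := exists_gen_specializes y
  obtain rfl := (mem_onlyOn_iff Z y).1 hyo Z' hZ'
  exact hZ'.mem_open V.2 hyV

theorem isArtinianRing_stalk (Z : irreducibleComponents (X : Type u)) :
    IsArtinianRing (X.presheaf.stalk (gen Z)) := by
  have hsub : Subsingleton (Spec (X.presheaf.stalk (gen Z))) := ⟨fun a b => by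
    refine (X.fromSpecStalk (gen Z)).isEmbedding.injective ?_
    have h : ∀ q, X.fromSpecStalk (gen Z) q = gen Z := fun q => eq_of_specializes_gen Z (by
      have : X.fromSpecStalk (gen Z) q ∈ Set.range (X.fromSpecStalk (gen Z)) := ⟨q, rfl⟩
      rwa [Scheme.range_fromSpecStalk] at this)
    rw [h, h]⟩
  haveI : Ring.KrullDimLE 0 (X.presheaf.stalk (gen Z)) := Ring.KrullDimLE.mk₀ fun I hI => by
    have h := congrArg PrimeSpectrum.asIdeal (hsub.elim ⟨I, hI⟩ (IsLocalRing.closedPoint _))
    change I = _ at h
    rw [h]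
    exact IsLocalRing.maximalIdeal.isMaximal _
  haveI : IsNoetherianRing (X.presheaf.stalk (gen Z)) := inferInstance
  exact isArtinianRing_iff_krullDimLE_zero.2 inferInstance

/-- The germs at the generic points. -/
noncomputable def toStalk (Z : irreducibleComponents (X : Type u)) : RatFun.ring X ⟶ X.presheaf.stalk (gen Z) :=
  Limits.colimit.desc (RatFun.sectionsOnDense X)
    { pt := X.presheaf.stalk (gen Z)
      ι :=
        { app := fun V => X.presheaf.germ V.unop.obj (gen Z) (gen_mem_of_dense Z _ V.unop.property)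
          naturality := fun V W f => by
            erw [Category.comp_id]
            exact X.presheaf.germ_res f.unop.hom _ _ } }

theorem toStalk_toRing (Z : irreducibleComponents (X : Type u)) (V : X.Opens) (hV : Dense (V : Set X)) (s : Γ(X, V)) :
    toStalk Z (RatFun.toRing X V hV s) = X.presheaf.germ V (gen Z) (gen_mem_of_dense Z V hV) s := by
  change (RatFun.toRing X V hV ≫ toStalk Z).hom s = _
  unfold RatFun.toRing toStalk
  erw [Limits.colimit.ι_desc]

theorem bijective_toStalks :
    Function.Bijective fun (r : RatFun.ring X) (Z : irreducibleComponents (X : Type u)) => toStalk Z r := by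
  constructor
  · intro r r' h
    obtain ⟨V, hV, s, rfl⟩ := exists_rep r
    obtain ⟨W, hW, t, rfl⟩ := exists_rep r'
    have hg : ∀ Z, ∃ (O : X.Opens) (_ : gen Z ∈ O) (h1 : O ≤ V) (h2 : O ≤ W),
        X.presheaf.map (homOfLE h1).op s = X.presheaf.map (homOfLE h2).op t := fun Z => by
      have := congrFun h Z
      simp only [toStalk_toRing] at this
      obtain ⟨O, hO, i1, i2, e⟩ := X.presheaf.germ_eq (gen Z) _ _ s t this
      exact ⟨O, hO, leOfHom i1, leOfHom i2, e⟩
    choose O hO h1 h2 he using hg
    refine (toRing_eq_iff hV hW s t).2 ⟨⨆ Z, O Z, iSup_le h1, iSup_le h2,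
      dense_of_forall_gen _ fun Z => Opens.mem_iSup.2 ⟨Z, hO Z⟩, ?_⟩
    refine X.sheaf.eq_of_locally_eq' O _ (fun Z => homOfLE (le_iSup O Z)) le_rfl _ _ fun Z => ?_
    show X.presheaf.map _ (X.presheaf.map _ s) = X.presheaf.map _ (X.presheaf.map _ t)
    simp only [← CommRingCat.comp_apply, ← Functor.map_comp]
    exact he Z
  · intro a
    choose V hV s hs using fun Z => X.presheaf.exists_germ_eq (a Z)
    let O : irreducibleComponents (X : Type u) → X.Opens := fun Z => V Z ⊓ onlyOn Z
    let sO : ∀ Z, Γ(X, O Z) := fun Z => X.presheaf.map (homOfLE inf_le_left).op (s Z)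
    have hgen : ∀ Z, gen Z ∈ O Z := fun Z =>
      ⟨hV Z, (mem_onlyOn_iff Z _).2 fun Z' h => eq_gen_of_specializes Z' Z h⟩
    have hcompat : TopCat.Presheaf.IsCompatible X.sheaf.obj O sO := fun Z Z' => by
      by_cases hZ : Z = Z'
      · subst hZ; rfl
      · have he : O Z ⊓ O Z' ≤ ⊥ := fun y hy => by
          obtain ⟨T, hT⟩ := exists_gen_specializes y
          exact (hZ (((mem_onlyOn_iff Z y).1 hy.1.2 T hT).symm.trans ((mem_onlyOn_iff Z' y).1 hy.2.2 T hT))).elim
        exact @Subsingleton.elim _ (CommRingCat.subsingleton_of_isTerminal (X.sheaf.isTerminalOfEqEmpty (le_bot_iff.1 he))) _ _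
    obtain ⟨t, ht, -⟩ := X.sheaf.existsUnique_gluing' O (⨆ Z, O Z) (fun Z => homOfLE (le_iSup O Z)) le_rfl sO hcompat
    refine ⟨RatFun.toRing X (⨆ Z, O Z) (dense_of_forall_gen _ fun Z => Opens.mem_iSup.2 ⟨Z, hgen Z⟩) t,
      funext fun Z => ?_⟩
    simp only [toStalk_toRing]
    have := congrArg (X.presheaf.germ (O Z) (gen Z) (hgen Z)) (ht Z)
    simp only [sO, TopCat.Presheaf.germ_res_apply] at this
    exact ((TopCat.Presheaf.germ_res_apply X.presheaf _ _ _ _).symm.trans this).trans (hs Z)

end Groth.Agent.RatFunH11
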