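import Groth.Prelude.Def_RatFun
import Mathlib.AlgebraicGeometry.Noetherian
import Mathlib.Algebra.Category.Ring.FilteredColimits
import Mathlib.CategoryTheory.Limits.ConcreteCategory.Basic

/-!
Elements of the ring of rational functions.
-/

universe u

open CategoryTheory AlgebraicGeometry TopologicalSpace Opposite

namespace Groth.Agent.RatFunH11

variable {X : Scheme.{u}}

instance isFiltered_denseOpens : IsFiltered ((RatFun.IsDenseOpen X).FullSubcategory)ᵒᵖ where
  nonempty := ⟨op ⟨⊤, dense_univ⟩⟩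
  cocone_objs U V :=
    ⟨op ⟨U.unop.obj ⊓ V.unop.obj, U.unop.property.inter_of_isOpen_left V.unop.property U.unop.obj.2⟩,
      (ObjectProperty.homMk (homOfLE inf_le_left)).op, (ObjectProperty.homMk (homOfLE inf_le_right)).op, trivial⟩
  cocone_maps {U V} f g := ⟨V, 𝟙 _, by
    have h : f.unop = g.unop := ObjectProperty.hom_ext _ (Subsingleton.elim _ _)
    exact congrArg (· ≫ 𝟙 V) (Quiver.Hom.unop_inj h)⟩

theorem exists_rep (r : RatFun.ring X) :
    ∃ (V : X.Opens) (hV : Dense (V : Set X)) (s : Γ(X, V)), RatFun.toRing X V hV s = r := by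
  obtain ⟨j, s, hs⟩ := Limits.Concrete.colimit_exists_rep (RatFun.sectionsOnDense X) r
  exact ⟨j.unop.obj, j.unop.property, s, hs⟩

theorem toRing_res {V W : X.Opens} (h : W ≤ V) (hV : Dense (V : Set X)) (hW : Dense (W : Set X)) (s : Γ(X, V)) :
    RatFun.toRing X W hW (X.presheaf.map (homOfLE h).op s) = RatFun.toRing X V hV s :=
  ConcreteCategory.congr_hom (Limits.colimit.w (RatFun.sectionsOnDense X)
    (show op (⟨V, hV⟩ : (RatFun.IsDenseOpen X).FullSubcategory) ⟶ op ⟨W, hW⟩ from
      (ObjectProperty.homMk (homOfLE h)).op)) s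

theorem toRing_eq_iff {V W : X.Opens} (hV : Dense (V : Set X)) (hW : Dense (W : Set X))
    (s : Γ(X, V)) (t : Γ(X, W)) :
    RatFun.toRing X V hV s = RatFun.toRing X W hW t ↔
      ∃ (O : X.Opens) (h1 : O ≤ V) (h2 : O ≤ W), Dense (O : Set X) ∧
        X.presheaf.map (homOfLE h1).op s = X.presheaf.map (homOfLE h2).op t := by
  constructor
  · intro h
    obtain ⟨k, f, g, e⟩ := (Limits.Concrete.colimit_rep_eq_iff_exists (RatFun.sectionsOnDense X) _ _).1 h
    exact ⟨k.unop.obj, leOfHom f.unop.hom, leOfHom g.unop.hom, k.unop.property, e⟩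
  · rintro ⟨O, h1, h2, hO, e⟩
    rw [← toRing_res h1 hV hO, e, toRing_res h2 hW hO]

end Groth.Agent.RatFunH11
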